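import Mathlib

set_option autoImplicit false
set_option linter.unusedSectionVars false
set_option linter.unusedVariables false

/-!
Automorphisms of a group with a split `BN`-pair of rank one whose unipotent subgroup is a
trivial intersection subgroup: normalisation by inner automorphisms and a rigidity lemma.
-/

namespace Cfsg.Agent.Helper6.ReeAut

/-- rank one split `BN`-pair data with a TI unipotent subgroup -/
structure R1Data (G : Type*) [Group G] where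
  U : Subgroup G
  H : Subgroup G
  B : Subgroup G
  n : G
  mem_B : ∀ g, g ∈ B ↔ ∃ u ∈ U, ∃ h ∈ H, g = u * h
  hHU : ∀ h ∈ H, ∀ u ∈ U, h * u * h⁻¹ ∈ U
  hnH : ∀ h ∈ H, n * h * n⁻¹ ∈ H
  hn2 : n * n ∈ H
  bruhat : ∀ g, g ∈ B ∨ ∃ b ∈ B, ∃ u ∈ U, g = b * n * u
  normU : ∀ g, ∀ y ∈ U, y ≠ 1 → g⁻¹ * y * g ∈ U → g ∈ B
  nU : ∀ u ∈ U, n * u * n⁻¹ ∈ B → u = 1
  exU : ∃ u ∈ U, u ≠ 1

namespace R1Data

variable {G : Type*} [Group G] (D : R1Data G)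

theorem U_le_B : D.U ≤ D.B := fun u hu => (D.mem_B u).2 ⟨u, hu, 1, D.H.one_mem, (mul_one u).symm⟩

theorem H_le_B : D.H ≤ D.B := fun h hh => (D.mem_B h).2 ⟨1, D.U.one_mem, h, hh, (one_mul h).symm⟩

theorem B_conj_U {b u : G} (hb : b ∈ D.B) (hu : u ∈ D.U) : b * u * b⁻¹ ∈ D.U := by
  obtain ⟨u₀, hu₀, h₀, hh₀, rfl⟩ := (D.mem_B b).1 hb
  have e : u₀ * h₀ * u * (u₀ * h₀)⁻¹ = u₀ * (h₀ * u * h₀⁻¹) * u₀⁻¹ := by group
  rw [e]
  exact D.U.mul_mem (D.U.mul_mem hu₀ (D.hHU h₀ hh₀ u hu)) (D.U.inv_mem hu₀)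

theorem n_inv_H {h : G} (hh : h ∈ D.H) : D.n⁻¹ * h * D.n ∈ D.H := by
  have e : D.n⁻¹ * h * D.n = (D.n * D.n)⁻¹ * (D.n * h * D.n⁻¹) * (D.n * D.n) := by group
  rw [e]
  exact D.H.mul_mem (D.H.mul_mem (D.H.inv_mem D.hn2) (D.hnH h hh)) D.hn2

theorem n_not_mem_B : D.n ∉ D.B := by
  intro hn
  obtain ⟨u, hu, hu1⟩ := D.exU
  exact hu1 (D.nU u hu (D.B.mul_mem (D.B.mul_mem hn (D.U_le_B hu)) (D.B.inv_mem hn)))

theorem nU' {u : G} (hu : u ∈ D.U) (h : D.n⁻¹ * u * D.n ∈ D.B) : u = 1 := by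
  apply D.nU u hu
  have e : D.n * u * D.n⁻¹ = (D.n * D.n) * (D.n⁻¹ * u * D.n) * (D.n * D.n)⁻¹ := by group
  rw [e]
  exact D.B.mul_mem (D.B.mul_mem (D.H_le_B D.hn2) h) (D.B.inv_mem (D.H_le_B D.hn2))

/-- the other form of the big cell -/
theorem bruhat' (g : G) : g ∈ D.B ∨ ∃ u ∈ D.U, ∃ b ∈ D.B, g = u * D.n * b := by
  rcases D.bruhat g⁻¹ with h | ⟨b, hb, u, hu, e⟩
  · left
    have := D.B.inv_mem h
    rwa [inv_inv] at this
  · right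
    refine ⟨u⁻¹, D.U.inv_mem hu, (D.n * D.n)⁻¹ * b⁻¹,
      D.B.mul_mem (D.B.inv_mem (D.H_le_B D.hn2)) (D.B.inv_mem hb), ?_⟩
    have : g = (b * D.n * u)⁻¹ := by rw [← e, inv_inv]
    rw [this]; group

/-- an element normalising `U` and `V = n U n⁻¹` (on one non-trivial element each) lies in `H` -/
theorem mem_H_of_two {g : G} (h1 : ∃ y ∈ D.U, y ≠ 1 ∧ g * y * g⁻¹ ∈ D.U)
    (h2 : ∃ y ∈ D.U, y ≠ 1 ∧ ∃ y' ∈ D.U, g * (D.n * y * D.n⁻¹) * g⁻¹ = D.n * y' * D.n⁻¹) :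
    g ∈ D.H := by
  obtain ⟨y, hy, hy1, hy2⟩ := h1
  have hgB : g ∈ D.B := by
    have := D.normU g⁻¹ y hy hy1 (by rwa [inv_inv])
    have := D.B.inv_mem this
    rwa [inv_inv] at this
  obtain ⟨z, hz, hz1, z', hz', e⟩ := h2
  have hgB' : D.n⁻¹ * g * D.n ∈ D.B := by
    have h3 : ((D.n⁻¹ * g * D.n)⁻¹)⁻¹ * z * (D.n⁻¹ * g * D.n)⁻¹ ∈ D.U := by
      have : ((D.n⁻¹ * g * D.n)⁻¹)⁻¹ * z * (D.n⁻¹ * g * D.n)⁻¹ =
          D.n⁻¹ * (g * (D.n * z * D.n⁻¹) * g⁻¹) * D.n := by group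
      rw [this, e]
      have : D.n⁻¹ * (D.n * z' * D.n⁻¹) * D.n = z' := by group
      rw [this]; exact hz'
    have := D.B.inv_mem (D.normU _ z hz hz1 h3)
    rwa [inv_inv] at this
  obtain ⟨u₀, hu₀, h₀, hh₀, rfl⟩ := (D.mem_B g).1 hgB
  have h4 : D.n⁻¹ * u₀ * D.n ∈ D.B := by
    have : D.n⁻¹ * u₀ * D.n = (D.n⁻¹ * (u₀ * h₀) * D.n) * (D.n⁻¹ * h₀ * D.n)⁻¹ := by group
    rw [this]
    exact D.B.mul_mem hgB' (D.B.inv_mem (D.H_le_B (D.n_inv_H hh₀)))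
  rw [D.nU' hu₀ h4, one_mul]
  exact hh₀

/-- normalised automorphisms: they map `U` into `U` and `V = n U n⁻¹` into `V` -/
structure Norm (α : MulAut G) : Prop where
  hU : ∀ u ∈ D.U, α u ∈ D.U
  hV : ∀ u ∈ D.U, ∃ u' ∈ D.U, α (D.n * u * D.n⁻¹) = D.n * u' * D.n⁻¹

variable {D}

theorem surj_on_U [Finite G] {α : MulAut G} (hU : ∀ u ∈ D.U, α u ∈ D.U) {u' : G} (hu' : u' ∈ D.U) :
    ∃ u ∈ D.U, α u = u' := by
  let φ : D.U → D.U := fun x => ⟨α x.1, hU x.1 x.2⟩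
  have hinj : Function.Injective φ := by
    intro x y hxy
    exact Subtype.ext (α.injective (congrArg Subtype.val hxy))
  obtain ⟨x, hx⟩ := Finite.surjective_of_injective hinj ⟨u', hu'⟩
  exact ⟨x.1, x.2, congrArg Subtype.val hx⟩

/-- the second normalisation step -/
theorem exists_norm [Finite G] {α : MulAut G} (hU : ∀ u ∈ D.U, α u ∈ D.U) :
    ∃ u₁ ∈ D.U, D.Norm (MulAut.conj u₁ * α) := by
  set w := α D.n with hw
  have hwB : w ∉ D.B := by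
    intro hwB
    obtain ⟨u, hu, hu1⟩ := D.exU
    have h1 : α (D.n * u * D.n⁻¹) ∈ D.U := by
      rw [map_mul, map_mul, map_inv, ← hw]
      exact D.B_conj_U hwB (hU u hu)
    obtain ⟨u', hu', e⟩ := surj_on_U hU h1
    have h2 : D.n * u * D.n⁻¹ = u' := (α.injective e).symm
    exact hu1 (D.nU u hu (by rw [h2]; exact D.U_le_B hu'))
  rcases D.bruhat' w with h | ⟨u₁, hu₁, b, hb, e⟩
  · exact absurd h hwB
  refine ⟨u₁⁻¹, D.U.inv_mem hu₁, ⟨?_, ?_⟩⟩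
  · intro u hu
    rw [MulAut.mul_apply, MulAut.conj_apply, inv_inv]
    exact D.U.mul_mem (D.U.mul_mem (D.U.inv_mem hu₁) (hU u hu)) hu₁
  · intro u hu
    refine ⟨b * α u * b⁻¹, D.B_conj_U hb (hU u hu), ?_⟩
    rw [MulAut.mul_apply, MulAut.conj_apply, inv_inv, map_mul, map_mul, map_inv, ← hw, e]
    group

theorem Norm.torus {α : MulAut G} (hα : D.Norm α) {h : G} (hh : h ∈ D.H) : α h ∈ D.H := by
  obtain ⟨u, hu, hu1⟩ := D.exU
  apply D.mem_H_of_two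
  · refine ⟨α u, hα.hU u hu, fun e => hu1 (α.injective (by rw [e, map_one])), ?_⟩
    rw [← map_inv, ← map_mul, ← map_mul]
    exact hα.hU _ (D.hHU h hh u hu)
  · obtain ⟨u', hu', e'⟩ := hα.hV u hu
    have hu'1 : u' ≠ 1 := by
      intro h1
      rw [h1, mul_one, mul_inv_cancel, ← map_one α] at e'
      have := α.injective e'
      apply hu1
      have e2 : u = D.n⁻¹ * (D.n * u * D.n⁻¹) * D.n := by group
      rw [e2, this]; group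
    obtain ⟨u'', hu'', e''⟩ := hα.hV (D.n⁻¹ * h * D.n * u * (D.n⁻¹ * h * D.n)⁻¹)
      (D.hHU _ (D.n_inv_H hh) u hu)
    refine ⟨u', hu', hu'1, u'', hu'', ?_⟩
    rw [← e', ← e'', ← map_inv, ← map_mul, ← map_mul]
    congr 1
    group

theorem Norm.mul {α β : MulAut G} (hα : D.Norm α) (hβ : D.Norm β) : D.Norm (α * β) := by
  refine ⟨fun u hu => ?_, fun u hu => ?_⟩
  · rw [MulAut.mul_apply]; exact hα.hU _ (hβ.hU u hu)
  · obtain ⟨u', hu', e'⟩ := hβ.hV u hu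
    obtain ⟨u'', hu'', e''⟩ := hα.hV u' hu'
    exact ⟨u'', hu'', by rw [MulAut.mul_apply, e', e'']⟩

theorem Norm.inv [Finite G] {α : MulAut G} (hα : D.Norm α) : D.Norm α⁻¹ := by
  refine ⟨fun u hu => ?_, fun u hu => ?_⟩
  · obtain ⟨u₀, hu₀, e⟩ := surj_on_U hα.hU hu
    rw [← e, MulAut.inv_apply, MulEquiv.symm_apply_apply]
    exact hu₀
  · choose ψ hψ hψ' using hα.hV
    let φ : D.U → D.U := fun x => ⟨ψ x.1 x.2, hψ x.1 x.2⟩
    have hinj : Function.Injective φ := by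
      intro x y hxy
      have h1 : ψ x.1 x.2 = ψ y.1 y.2 := congrArg Subtype.val hxy
      have h2 : α (D.n * x.1 * D.n⁻¹) = α (D.n * y.1 * D.n⁻¹) := by
        rw [hψ' x.1 x.2, hψ' y.1 y.2, h1]
      have h3 := α.injective h2
      apply Subtype.ext
      have : x.1 = D.n⁻¹ * (D.n * x.1 * D.n⁻¹) * D.n := by group
      rw [this, h3]; group
    obtain ⟨x, hx⟩ := Finite.surjective_of_injective hinj ⟨u, hu⟩
    refine ⟨x.1, x.2, ?_⟩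
    have h1 : ψ x.1 x.2 = u := congrArg Subtype.val hx
    rw [MulAut.inv_apply, MulEquiv.symm_apply_eq, hψ' x.1 x.2, h1]

theorem Norm.conj_H {h : G} (hh : h ∈ D.H) : D.Norm (MulAut.conj h) := by
  refine ⟨fun u hu => ?_, fun u hu => ?_⟩
  · rw [MulAut.conj_apply]; exact D.hHU h hh u hu
  · refine ⟨(D.n⁻¹ * h * D.n) * u * (D.n⁻¹ * h * D.n)⁻¹, D.hHU _ (D.n_inv_H hh) u hu, ?_⟩
    rw [MulAut.conj_apply]; group

theorem Norm.one : D.Norm (1 : MulAut G) :=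
  ⟨fun u hu => by rwa [MulAut.one_apply], fun u hu => ⟨u, hu, by rw [MulAut.one_apply]⟩⟩

/-- rigidity: a normalised automorphism that is trivial on `U` is trivial, if `B` is core-free -/
theorem Norm.eq_one {β : MulAut G} (hβ : D.Norm β) (hcore : ∀ g : G, (∀ x : G, x * g * x⁻¹ ∈ D.B) → g = 1)
    (hU : ∀ u ∈ D.U, β u = u) : β = 1 := by
  have hB : ∀ b ∈ D.B, b⁻¹ * β b ∈ D.B := by
    intro b hb
    obtain ⟨u₀, hu₀, h₀, hh₀, rfl⟩ := (D.mem_B b).1 hb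
    rw [map_mul, hU u₀ hu₀]
    exact D.B.mul_mem (D.B.inv_mem hb) (D.B.mul_mem (D.U_le_B hu₀) (D.H_le_B (hβ.torus hh₀)))
  have hn : D.n⁻¹ * β D.n ∈ D.B := by
    obtain ⟨u, hu, hu1⟩ := D.exU
    obtain ⟨u', hu', e'⟩ := hβ.hV u hu
    rw [map_mul, map_mul, map_inv, hU u hu] at e'
    have h3 : ((D.n⁻¹ * β D.n)⁻¹)⁻¹ * u * (D.n⁻¹ * β D.n)⁻¹ ∈ D.U := by
      have : ((D.n⁻¹ * β D.n)⁻¹)⁻¹ * u * (D.n⁻¹ * β D.n)⁻¹ =
          D.n⁻¹ * (β D.n * u * (β D.n)⁻¹) * D.n := by group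
      rw [this, e']
      have : D.n⁻¹ * (D.n * u' * D.n⁻¹) * D.n = u' := by group
      rw [this]; exact hu'
    have := D.B.inv_mem (D.normU _ u hu hu1 h3)
    rwa [inv_inv] at this
  have hA : ∀ x : G, x⁻¹ * β x ∈ D.B := by
    intro x
    rcases D.bruhat' x with h | ⟨u, hu, b, hb, rfl⟩
    · exact hB x h
    · rw [map_mul, map_mul, hU u hu]
      have : (u * D.n * b)⁻¹ * (u * β D.n * β b) = b⁻¹ * (D.n⁻¹ * β D.n) * b * (b⁻¹ * β b) := by group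
      rw [this]
      exact D.B.mul_mem (D.B.mul_mem (D.B.mul_mem (D.B.inv_mem hb) hn) hb) (hB b hb)
  ext g
  rw [MulAut.one_apply]
  have key : g⁻¹ * β g = 1 := by
    apply hcore
    intro x
    have e : x * (g⁻¹ * β g) * x⁻¹ = ((g * x⁻¹)⁻¹ * β (g * x⁻¹)) * (x⁻¹⁻¹ * β x⁻¹)⁻¹ := by
      rw [map_mul]; group
    rw [e]
    exact D.B.mul_mem (hA _) (D.B.inv_mem (hA _))
  calc β g = g * (g⁻¹ * β g) := by group
    _ = g := by rw [key, mul_one]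

end R1Data

end Cfsg.Agent.Helper6.ReeAut
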