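import Mathlib
import Cfsg.Agent.Helper6.Ree.G2Gen2

set_option autoImplicit false
set_option linter.unusedSectionVars false
set_option linter.unusedVariables false
set_option linter.unusedSimpArgs false

/-!
The full group law of `U¹ = U ∩ ²G₂` in the coordinates `reeU m t u v`.
-/

namespace Cfsg.Agent.Helper6.ReeAut

open Cfsg.Lie Cfsg.Agent.Helper6 Cfsg.Agent.Helper6.Ree

variable {K : Type*} [Field K] {m : ℕ}

section char3

variable [CharP K 3]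

theorem Z_eq_W8 (a b : K) : X 9 a * X 11 b = W8 0 a 0 b := by
  unfold W8; rw [X_zero, X_zero, one_mul, one_mul]

/-- conjugation of `U_8` by the inverse of `x_a(p) x_b(q)` -/
theorem conj76_inv (p q a b c d : K) :
    W8 a b c d * (X 7 p * X 6 q) = (X 7 p * X 6 q) * W8 a (b - p * a) c (d - q * c) := by
  have h7 := conj7 (-p) a b c d
  have h6 := conj6 (-q) a b c d
  rw [X_inv, neg_neg, Z_eq_W8, W8_mul] at h7 h6
  have e1 : W8 a b c d * X 7 p = X 7 p * (W8 a b c d * W8 0 (-p * a) 0 0) := by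
    rw [W8_mul, ← h7, ← mul_assoc, ← mul_assoc, X_mul_neg, one_mul]
  have e2 : W8 a b c d * X 6 q = X 6 q * W8 (a + 0) (b + 0) (c + 0) (d + -q * c) := by
    rw [← h6, ← mul_assoc, ← mul_assoc, X_mul_neg, one_mul]
  have e3 : W8 0 (-p * a) 0 0 * X 6 q = X 6 q * W8 0 (-p * a) 0 0 := by
    have hc : Commute (X 9 (-p * a) * X 11 0) (X 6 q) :=
      Z_comm_gen (by norm_num) (by norm_num) _ _ _
    rw [← Z_eq_W8]
    exact hc.eq
  calc W8 a b c d * (X 7 p * X 6 q) = (W8 a b c d * X 7 p) * X 6 q := (mul_assoc _ _ _).symm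
    _ = X 7 p * (W8 a b c d * (W8 0 (-p * a) 0 0 * X 6 q)) := by rw [e1]; simp only [mul_assoc]
    _ = X 7 p * ((W8 a b c d * X 6 q) * W8 0 (-p * a) 0 0) := by rw [e3]; simp only [mul_assoc]
    _ = X 7 p * X 6 q * (W8 (a + 0) (b + 0) (c + 0) (d + -q * c) * W8 0 (-p * a) 0 0) := by
        rw [e2]; simp only [mul_assoc]
    _ = _ := by
        rw [W8_mul]
        congr 2 <;> ring

end char3

namespace ReeCtx'

variable (C : ReeCtx K m)
include C

/-- the product in `U¹` -/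
theorem reeU_mul_full (t u v t' u' v' : K) :
    reeU m t u v * reeU m t' u' v' =
      reeU m (t + t') (u + u' - t * t' ^ (3 * 3 ^ m))
        (v + v' - t' * u + t * t' ^ (3 * 3 ^ m + 1) - t ^ 2 * t' ^ (3 * 3 ^ m)) := by
  have := C.char3
  obtain ⟨t'', u'', v'', e⟩ := C.mem_U_inf_Fix.1 (Subgroup.mul_mem _
    (C.mem_U_inf_Fix.2 ⟨t, u, v, rfl⟩) (C.mem_U_inf_Fix.2 ⟨t', u', v', rfl⟩))
  have e0 := e
  rw [reeU_form t u v, reeU_form t' u' v', reeU_form t'' u'' v''] at e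
  set g' := W8 (t' ^ (3 ^ m + 1) + u' ^ 3 ^ m) (t' ^ (2 * 3 ^ m + 1) + v' ^ 3 ^ m) u' v' with hg'
  set p' := t' ^ 3 ^ m with hp'
  have s1 := conj76_inv p' t' (t ^ (3 ^ m + 1) + u ^ 3 ^ m) (t ^ (2 * 3 ^ m + 1) + v ^ 3 ^ m) u v
  set d := W8 (p' * t) (p' ^ 2 * t) (-(p' ^ 3 * t)) (-(p' ^ 3 * t ^ 2)) with hd
  have s2 : X 6 t * X 7 p' = X 7 p' * X 6 t * d := by
    rw [comm76, hd]; unfold W8; simp only [mul_assoc]
  have s3 : d * X 6 t' = X 6 t' * (d * W8 0 0 0 (-t' * -(p' ^ 3 * t))) := by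
    have h6 := conj6 (-t') (p' * t) (p' ^ 2 * t) (-(p' ^ 3 * t)) (-(p' ^ 3 * t ^ 2))
    rw [← hd, X_inv, neg_neg] at h6
    have hz : W8 0 0 0 (-t' * -(p' ^ 3 * t)) = X 9 0 * X 11 (-t' * -(p' ^ 3 * t)) := by
      unfold W8; simp only [X_zero, one_mul]
    rw [hz, ← h6, ← mul_assoc, ← mul_assoc, X_mul_neg, one_mul]
  rw [prod_rearr s1 s2 s3, X_add, X_add, hd, hg', W8_mul, W8_mul, W8_mul, mul_assoc] at e
  obtain ⟨_, e6, eg⟩ := uge76_unique (W8_mem _ _ _ _) (W8_mem _ _ _ _) e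
  obtain ⟨_, _, e10, e11⟩ := uge8_unique eg
  rw [e0, ← e6, ← e10, ← e11]
  congr 1
  · rw [hp']; ring
  · rw [hp']; ring

end ReeCtx'

end Cfsg.Agent.Helper6.ReeAut
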