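import Mathlib
import Cfsg.Agent.S1080
import Cfsg.Agent.Helper6.ReeAut.MulFull

set_option autoImplicit false
set_option linter.unusedSectionVars false
set_option linter.unusedVariables false
set_option linter.unusedSimpArgs false

/-!
Field automorphisms of `²G₂(q)`.
-/

namespace Cfsg.Agent.Helper6.ReeAut

open Cfsg.Lie Cfsg.Agent.Helper6 Cfsg.Agent.Helper6.Ree

variable {K : Type*} [Field K] {m : ℕ}

/-- the automorphism of `GL` induced by a field automorphism -/
noncomputable def gm (f : K ≃+* K) : GL chevG2.Idx K ≃* GL chevG2.Idx K :=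
  Cfsg.Agent.S1080.glMap chevG2 f

theorem gm_val (f : K ≃+* K) (g : GL chevG2.Idx K) :
    ((gm f g : GL chevG2.Idx K) : Matrix chevG2.Idx chevG2.Idx K) =
      (g : Matrix chevG2.Idx chevG2.Idx K).map f := rfl

theorem gm_X (f : K ≃+* K) (r : ℕ) (t : K) : gm f (X r t) = X r (f t) := by
  apply Units.ext
  rw [gm_val, X_val, X_val, Cfsg.Agent.S1080.x_map]

theorem gm_reeU (f : K ≃+* K) (t u v : K) : gm f (reeU m t u v) = reeU m (f t) (f u) (f v) := by
  rw [reeU_eq, reeU_eq]
  simp only [map_mul, gm_X, map_pow, map_add]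

theorem gm_reeV (f : K ≃+* K) (t u v : K) : gm f (reeV m t u v) = reeV m (f t) (f u) (f v) := by
  rw [reeV_eq, reeV_eq]
  simp only [map_mul, gm_X, map_pow, map_add, map_neg]

theorem gm_symm (f : K ≃+* K) (g : GL chevG2.Idx K) : gm f.symm (gm f g) = g := by
  apply Units.ext
  rw [gm_val, gm_val, Matrix.map_map]
  ext i j
  simp

theorem gm_mem (f : K ≃+* K) {g : GL chevG2.Idx K} (hg : g ∈ twistedG2 K (3 ^ m)) :
    gm f g ∈ twistedG2 K (3 ^ m) := by
  have h : twistedG2 K (3 ^ m) ≤ (twistedG2 K (3 ^ m)).comap (gm f).toMonoidHom := by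
    apply twisted_le_of_gens
    · intro t u v
      rw [Subgroup.mem_comap]
      show gm f (reeU m t u v) ∈ _
      rw [gm_reeU]; exact reeU_mem_twisted _ _ _
    · intro t u v
      rw [Subgroup.mem_comap]
      show gm f (reeV m t u v) ∈ _
      rw [gm_reeV]; exact reeV_mem_twisted _ _ _
  exact h hg

theorem gm_n0 (f : K ≃+* K) : gm f (n0 K m) = n0 K m := by
  unfold n0
  simp only [map_mul, gm_reeU, gm_reeV, map_zero, map_one]

/-- the field automorphism, as an automorphism of `²G₂(q)` -/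
noncomputable def phiAut (f : K ≃+* K) : MulAut ↥(twistedG2 K (3 ^ m)) where
  toFun g := ⟨gm f g.1, gm_mem f g.2⟩
  invFun g := ⟨gm f.symm g.1, gm_mem f.symm g.2⟩
  left_inv g := Subtype.ext (gm_symm f g.1)
  right_inv g := Subtype.ext (by
    have := gm_symm f.symm g.1
    rwa [RingEquiv.symm_symm] at this)
  map_mul' a b := Subtype.ext (by simp only [Subgroup.coe_mul, map_mul])

theorem phiAut_coe (f : K ≃+* K) (g : ↥(twistedG2 K (3 ^ m))) :
    ((phiAut f g : ↥(twistedG2 K (3 ^ m))) : GL chevG2.Idx K) = gm f g.1 := rfl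

end Cfsg.Agent.Helper6.ReeAut
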