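import Mathlib
import Cfsg.Agent.Helper6.Ree.G2ThreePt2
import Cfsg.Agent.Helper6.ReeAut.Abstract
import Cfsg.Agent.Helper6.ReeAut.FieldAut

set_option autoImplicit false
set_option linter.unusedSectionVars false
set_option linter.unusedVariables false
set_option linter.unusedSimpArgs false

/-!
The rank one data of `²G₂(q)`.
-/

namespace Cfsg.Agent.Helper6.ReeAut

open Cfsg.Lie Cfsg.Agent.Helper6 Cfsg.Agent.Helper6.Ree

variable {K : Type*} [Field K] {m : ℕ}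

/-- the elements of `U¹`, in `²G₂` -/
def xU (m : ℕ) (t u v : K) : ↥(twistedG2 K (3 ^ m)) := ⟨reeU m t u v, reeU_mem_twisted t u v⟩

/-- the Weyl element, in `²G₂` -/
def nG (K : Type*) [Field K] (m : ℕ) : ↥(twistedG2 K (3 ^ m)) := ⟨n0 K m, n0_mem_twisted⟩

/-- the torus `H¹` as a subgroup of `²G₂` -/
abbrev H1 (K : Type*) [Field K] (m : ℕ) : Subgroup ↥(twistedG2 K (3 ^ m)) :=
  (chevG2.diagonalSubgroup K ⊓ twistedG2 K (3 ^ m)).subgroupOf (twistedG2 K (3 ^ m))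

theorem mem_H1 (g : ↥(twistedG2 K (3 ^ m))) :
    g ∈ H1 K m ↔ (g : GL chevG2.Idx K) ∈ chevG2.diagonalSubgroup K := by
  unfold H1
  rw [Subgroup.mem_subgroupOf]
  exact ⟨fun h => h.1, fun h => ⟨h, g.2⟩⟩

theorem xU_coe (t u v : K) : ((xU m t u v : ↥(twistedG2 K (3 ^ m))) : GL chevG2.Idx K) =
    reeU m t u v := rfl

theorem nG_coe : ((nG K m : ↥(twistedG2 K (3 ^ m))) : GL chevG2.Idx K) = n0 K m := rfl

theorem xU_mem_U1 (t u v : K) : xU m t u v ∈ ReeCtx.U1 (K := K) (m := m) := by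
  rw [ReeCtx.mem_U1]; exact reeU_mem_U t u v

variable (C : ReeCtx K m)
include C

theorem exists_xU {g : ↥(twistedG2 K (3 ^ m))} (hg : g ∈ ReeCtx.U1 (K := K) (m := m)) :
    ∃ t u v : K, g = xU m t u v := by
  rw [ReeCtx.mem_U1] at hg
  have h : (g : GL chevG2.Idx K) ∈ chevG2.posUnipotent K ⊓ C.Fix := by
    rw [← C.U_inf_twisted]; exact ⟨hg, g.2⟩
  obtain ⟨t, u, v, e⟩ := C.mem_U_inf_Fix.1 h
  exact ⟨t, u, v, Subtype.ext e⟩

/-- the rank one data of `²G₂(q)` -/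
noncomputable def r1 : R1Data ↥(twistedG2 K (3 ^ m)) where
  U := ReeCtx.U1 (K := K) (m := m)
  H := H1 K m
  B := B1 K m
  n := nG K m
  mem_B := by
    have Δ := bn2 (K := K)
    intro g
    constructor
    · intro hg
      rw [mem_B1] at hg
      obtain ⟨u, hu, h, hh, e⟩ := C.borel_inf ⟨hg, g.2⟩
      exact ⟨⟨u, hu.2⟩, (ReeCtx.mem_U1 _).2 hu.1, ⟨h, hh.2⟩, (mem_H1 _).2 hh.1, Subtype.ext e⟩
    · rintro ⟨u, hu, h, hh, rfl⟩
      rw [mem_B1, Subgroup.coe_mul]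
      exact Subgroup.mul_mem _ (Δ.posUnipotent_le_borel ((ReeCtx.mem_U1 _).1 hu))
        (Δ.diag_le_borel ((mem_H1 _).1 hh))
  hHU := by
    have Δ := bn2 (K := K)
    intro h hh u hu
    rw [ReeCtx.mem_U1] at hu ⊢
    rw [mem_H1] at hh
    simp only [Subgroup.coe_mul, Subgroup.coe_inv]
    exact Δ.diag_conj_posUnipotent hh hu
  hnH := by
    intro h hh
    rw [mem_H1] at hh ⊢
    simp only [Subgroup.coe_mul, Subgroup.coe_inv]
    exact (C.n0_conj_H1 ⟨hh, h.2⟩).1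
  hn2 := by
    rw [mem_H1, Subgroup.coe_mul]
    exact C.n0_sq
  bruhat := by
    intro g
    rcases C.cells g.2 with h | ⟨b, hb, u, hu, e⟩
    · left
      rw [mem_B1]; exact h.1
    · right
      exact ⟨⟨b, hb.2⟩, (mem_B1 _).2 hb.1, ⟨u, hu.2⟩, (ReeCtx.mem_U1 _).2 hu.1, Subtype.ext e⟩
  normU := by
    intro g y hy hy1 h
    rw [mem_B1]
    by_contra hgB
    rw [ReeCtx.mem_U1] at hy h
    simp only [Subgroup.coe_mul, Subgroup.coe_inv] at h
    have := C.U_inter_conj g.2 hgB hy h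
    exact hy1 (Subtype.ext this)
  nU := by
    have Δ := bn2 (K := K)
    intro u hu h
    rw [ReeCtx.mem_U1] at hu
    rw [mem_B1] at h
    simp only [Subgroup.coe_mul, Subgroup.coe_inv] at h
    have hV : n0 K m * (u : GL chevG2.Idx K) * (n0 K m)⁻¹ ∈ chevG2.negUnipotent K :=
      big_conj_U C.n0_big hu
    have hmem : n0 K m * (u : GL chevG2.Idx K) * (n0 K m)⁻¹ ∈
        chevG2.borelSubgroup K ⊓ chevG2.negUnipotent K := ⟨h, hV⟩
    rw [borel_inf_negUnipotent Δ.hB Δ.hH Δ.good2, Subgroup.mem_bot] at hmem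
    apply Subtype.ext
    have : (u : GL chevG2.Idx K) = (n0 K m)⁻¹ * (n0 K m * u * (n0 K m)⁻¹) * n0 K m := by group
    rw [this, hmem]
    simp
  exU := ⟨xU m 0 1 0, xU_mem_U1 _ _ _, fun h => C.reeU_010_ne_one (congrArg Subtype.val h)⟩

end Cfsg.Agent.Helper6.ReeAut
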