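import Mathlib
import Cfsg.Agent.Helper6.Ree.G2Inv3
import Cfsg.Agent.Helper6.ReeAut.Setup

set_option autoImplicit false
set_option linter.unusedSectionVars false
set_option linter.unusedVariables false
set_option linter.unusedSimpArgs false

/-!
The group `U¹` of `²G₂(q)` in coordinates, and the action of the torus.
-/

namespace Cfsg.Agent.Helper6.ReeAut

open Cfsg.Lie Cfsg.Agent.Helper6 Cfsg.Agent.Helper6.Ree

variable {K : Type*} [Field K] {m : ℕ}

theorem xU_zero : xU m (0 : K) 0 0 = 1 := Subtype.ext reeU_000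

theorem three_theta_ne_zero (m : ℕ) : 3 * 3 ^ m ≠ 0 := by positivity

section ctx

variable (C : ReeCtx K m)
include C

theorem xU_inj {t u v t' u' v' : K} (h : xU m t u v = xU m t' u' v') : t = t' ∧ u = u' ∧ v = v' := by
  have := C.char3
  exact reeU_inj (congrArg Subtype.val h)

theorem xU_mul (t u v t' u' v' : K) :
    xU m t u v * xU m t' u' v' =
      xU m (t + t') (u + u' - t * t' ^ (3 * 3 ^ m))
        (v + v' - t' * u + t * t' ^ (3 * 3 ^ m + 1) - t ^ 2 * t' ^ (3 * 3 ^ m)) :=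
  Subtype.ext (ReeCtx'.reeU_mul_full C t u v t' u' v')


theorem xU_split (t u v : K) : xU m t u v = xU m t 0 0 * xU m 0 u 0 * xU m 0 0 v := by
  rw [xU_mul C, xU_mul C]
  congr 1 <;> simp [zero_pow (three_theta_ne_zero m)]

theorem xU_mul_Z (t u v c : K) : xU m t u v * xU m 0 0 c = xU m t u (v + c) := by
  rw [xU_mul C]
  congr 1 <;> simp [zero_pow (three_theta_ne_zero m)]

theorem xU_Z_add (c c' : K) : xU m 0 0 c * xU m 0 0 c' = xU m (0 : K) 0 (c + c') := by
  rw [xU_mul_Z C]

theorem xU_u_add (u u' : K) : xU m 0 u 0 * xU m 0 u' 0 = xU m (0 : K) (u + u') 0 := by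
  rw [xU_mul C]
  congr 1 <;> simp [zero_pow (three_theta_ne_zero m)]

/-- the cube of an element of `U¹` -/
theorem xU_cube (t u v : K) : xU m t u v ^ 3 = xU m 0 0 (-(t ^ (3 * 3 ^ m + 2))) := by
  have := C.char3
  have h3 : (3 : K) = 0 := by
    have := CharP.cast_eq_zero K 3
    exact_mod_cast this
  rw [pow_succ, pow_two, xU_mul C, xU_mul C]
  congr 1
  · linear_combination t * h3
  · linear_combination (u - t ^ (3 * 3 ^ m + 1)) * h3
  · linear_combination (v - t * u) * h3

end ctx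

section torus

variable [Fintype K] (C : ReeCtx K m) (hK : Fintype.card K = 3 ^ (2 * m + 1))

/-- the torus elements, in `²G₂` -/
noncomputable def hT (w : Kˣ) : ↥(twistedG2 K (3 ^ m)) := ⟨hwHom K m w, C.hw_mem_twisted hK w⟩

/-- the character of the torus on `x_b` -/
noncomputable def c6 (m : ℕ) (w : Kˣ) : K := torChar chevG2 (cw m (w : K)) 6

/-- the character of the torus on `x_{3a+b}` -/
noncomputable def c10 (m : ℕ) (w : Kˣ) : K := torChar chevG2 (cw m (w : K)) 10

theorem hT_mem_H1 (w : Kˣ) : hT C hK w ∈ H1 K m := by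
  rw [mem_H1]; exact hwHom_mem_H w

theorem exists_hT {g : ↥(twistedG2 K (3 ^ m))} (hg : g ∈ H1 K m) : ∃ w : Kˣ, g = hT C hK w := by
  rw [mem_H1] at hg
  have h : (g : GL chevG2.Idx K) ∈ chevG2.diagonalSubgroup K ⊓ C.Fix := by
    rw [← C.H_inf_twisted hK]; exact ⟨hg, g.2⟩
  rw [← C.range_hwHom] at h
  obtain ⟨w, hw⟩ := h
  exact ⟨w, Subtype.ext hw.symm⟩

theorem hT_conj_xU (w : Kˣ) (t u v : K) :
    hT C hK w * xU m t u v * (hT C hK w)⁻¹ = xU m (c6 m w * t) (c10 m w * u) ((w : K) * v) :=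
  Subtype.ext (C.hw_conj_reeU hK w t u v)

theorem hT_injective : Function.Injective (hT C hK) := by
  intro w w' h
  exact hwHom_injective (congrArg Subtype.val h)

omit C in
include hK in
theorem c6_pow (s : Kˣ) : c6 m (s ^ (3 * 3 ^ m + 2)) = (s : K) := chi6_pow hK s

omit C in
include hK in
theorem c10_pow (s : Kˣ) : c10 m (s ^ (3 * 3 ^ m + 1)) = (s : K) ^ 2 := chi10_pow hK s

omit C hK in
theorem c6_neg_one : c6 (K := K) m (-1) = -1 := gen_chi6_neg_one

omit C hK in
theorem c10_neg_one : c10 (K := K) m (-1) = 1 := torChar_neg_one_10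

end torus

end Cfsg.Agent.Helper6.ReeAut
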