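import Mathlib
import Cfsg.Agent.Helper6.ReeAut.UFacts

set_option autoImplicit false
set_option linter.unusedSectionVars false
set_option linter.unusedVariables false
set_option linter.unusedSimpArgs false

/-!
Rigidity on `U¹`: a normalised automorphism of `²G₂(q)` that is trivial on the centre of `U¹`
and preserves the first coordinate of `x(1,0,0)` is trivial on `U¹`.
-/

namespace Cfsg.Agent.Helper6.ReeAut

open Cfsg.Lie Cfsg.Agent.Helper6 Cfsg.Agent.Helper6.Ree

variable {K : Type*} [Field K] {m : ℕ}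

/-- an additive subgroup closed under multiplication by squares and containing a non-zero
element is everything -/
theorem sq_closed_top [Fintype K] (hodd : Fintype.card K % 2 = 1) (S : AddSubgroup K)
    (hS : ∀ s x : K, x ∈ S → s ^ 2 * x ∈ S) {y : K} (hy : y ∈ S) (hy0 : y ≠ 0) (x : K) : x ∈ S := by
  obtain ⟨a, b, hab⟩ := sq_add_sq_field hodd (x / y)
  have : x = a ^ 2 * y + b ^ 2 * y := by rw [← add_mul, hab, div_mul_cancel₀ _ hy0]
  rw [this]
  exact S.add_mem (hS a y hy) (hS b y hy)

theorem card_odd {q : ℕ} (m : ℕ) (hq : q = 3 ^ (2 * m + 1)) : q % 2 = 1 := by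
  rw [hq]
  exact Nat.odd_iff.1 (Odd.pow (by decide))

variable [Fintype K] (C : ReeCtx K m) (hK : Fintype.card K = 3 ^ (2 * m + 1))
include C hK

/-- a normalised automorphism trivial on the centre of `U¹` is trivial on the torus -/
theorem torus_fixed {β : MulAut ↥(twistedG2 K (3 ^ m))} (hβ : (r1 C).Norm β)
    (hZ : ∀ v : K, β (xU m 0 0 v) = xU m 0 0 v) (w : Kˣ) : β (hT C hK w) = hT C hK w := by
  obtain ⟨w', hw'⟩ := exists_hT C hK (hβ.torus (hT_mem_H1 C hK w))
  have e0 := hT_conj_xU C hK w 0 0 1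
  rw [mul_zero, mul_zero, mul_one] at e0
  have e := congrArg β e0
  rw [map_mul, map_mul, map_inv, hw', hZ, hZ, hT_conj_xU] at e
  have h3 := (xU_inj C e).2.2
  rw [mul_one] at h3
  rw [hw', Units.ext h3]

/-- rigidity on `U¹` -/
theorem rigid_U (hm : 1 ≤ m) {β : MulAut ↥(twistedG2 K (3 ^ m))} (hβ : (r1 C).Norm β)
    (hZ : ∀ v : K, β (xU m 0 0 v) = xU m 0 0 v)
    (h1 : ∃ a b : K, β (xU m 1 0 0) = xU m 1 a b) (t u v : K) :
    β (xU m t u v) = xU m t u v := by
  have hch := C.char3
  have h3 : (3 : K) = 0 := by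
    have := CharP.cast_eq_zero K 3
    exact_mod_cast this
  have hodd : Fintype.card K % 2 = 1 := card_odd m hK
  have hT0 : (0 : K) ^ (3 * 3 ^ m) = 0 := zero_pow (three_theta_ne_zero m)
  have hT1 : (0 : K) ^ (3 * 3 ^ m + 1) = 0 := zero_pow (Nat.succ_ne_zero _)
  have hT2 : (0 : K) ^ (3 * 3 ^ m + 2) = 0 := zero_pow (Nat.succ_ne_zero _)
  have hH := torus_fixed C hK hβ hZ
  have hEq : ∀ (w : Kˣ) (x : ↥(twistedG2 K (3 ^ m))),
      β (hT C hK w * x * (hT C hK w)⁻¹) = hT C hK w * β x * (hT C hK w)⁻¹ := by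
    intro w x; rw [map_mul, map_mul, map_inv, hH]
  have hU : ∀ t u v : K, ∃ t' u' v' : K, β (xU m t u v) = xU m t' u' v' :=
    fun t u v => exists_xU C (hβ.hU _ (xU_mem_U1 t u v))
  choose f a b hfab using fun t => hU t 0 0
  choose f' g k hgk using fun u => hU 0 u 0
  -- `f' = 0`
  have hf' : ∀ u, f' u = 0 := by
    intro u
    have e : (xU m 0 u 0) ^ 3 = 1 := by rw [xU_cube C, hT2, neg_zero, xU_zero]
    have e2 := congrArg β e
    rw [map_pow, hgk, xU_cube C, map_one, ← xU_zero] at e2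
    have e3 := (xU_inj C e2).2.2
    exact pow_eq_zero_iff (Nat.succ_ne_zero _) |>.1 (neg_eq_zero.1 e3)
  have hgk' : ∀ u, β (xU m 0 u 0) = xU m 0 (g u) (k u) := by
    intro u; rw [hgk, hf']
  -- values at zero
  have hz : f 0 = 0 ∧ a 0 = 0 ∧ b 0 = 0 := by
    have e := hfab 0
    rw [xU_zero, map_one, ← xU_zero] at e
    obtain ⟨e1, e2, e3⟩ := xU_inj C e
    exact ⟨e1.symm, e2.symm, e3.symm⟩
  have hgz : g 0 = 0 ∧ k 0 = 0 := by
    have e := hgk' 0
    rw [xU_zero, map_one, ← xU_zero] at e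
    obtain ⟨_, e2, e3⟩ := xU_inj C e
    exact ⟨e2.symm, e3.symm⟩
  -- the torus action
  have hfw : ∀ (w : Kˣ) (t : K), f (c6 m w * t) = c6 m w * f t ∧ a (c6 m w * t) = c10 m w * a t ∧
      b (c6 m w * t) = (w : K) * b t := by
    intro w t
    have e := hEq w (xU m t 0 0)
    rw [hT_conj_xU, mul_zero, mul_zero, hfab, hfab, hT_conj_xU] at e
    exact xU_inj C e
  have hgw : ∀ (w : Kˣ) (u : K), g (c10 m w * u) = c10 m w * g u ∧
      k (c10 m w * u) = (w : K) * k u := by
    intro w u
    have e := hEq w (xU m 0 u 0)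
    rw [hT_conj_xU, mul_zero, mul_zero, hgk', hgk', hT_conj_xU] at e
    exact (xU_inj C e).2
  -- `f = id`
  have hf1 : f 1 = 1 := by
    obtain ⟨a₁, b₁, e⟩ := h1
    rw [hfab] at e
    exact (xU_inj C e).1
  have hf : ∀ t, f t = t := by
    intro t
    by_cases ht : t = 0
    · rw [ht, hz.1]
    · have e := (hfw ((Units.mk0 t ht) ^ (3 * 3 ^ m + 2)) 1).1
      rw [c6_pow hK, Units.val_mk0, mul_one, hf1, mul_one] at e
      exact e
  have hfab' : ∀ t, β (xU m t 0 0) = xU m t (a t) (b t) := by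
    intro t; rw [hfab, hf]
  -- additivity of `g` and `k`
  have hgadd : ∀ u u', g (u + u') = g u + g u' ∧ k (u + u') = k u + k u' := by
    intro u u'
    have e := congrArg β (xU_u_add C u u')
    rw [map_mul, hgk', hgk', hgk', xU_mul C] at e
    obtain ⟨_, e2, e3⟩ := xU_inj C e
    constructor
    · rw [← e2, hT0]; ring
    · rw [← e3, hT0, hT1]; ring
  -- the product relation
  have hprod : ∀ t t' : K, a t + a t' - t * t' ^ (3 * 3 ^ m) =
        a (t + t') + g (-(t * t' ^ (3 * 3 ^ m))) ∧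
      b t + b t' - t' * a t = b (t + t') + k (-(t * t' ^ (3 * 3 ^ m))) := by
    intro t t'
    have e1 : xU m t 0 0 * xU m t' 0 0 = xU m (t + t') 0 0 * xU m 0 (-(t * t' ^ (3 * 3 ^ m))) 0 *
        xU m 0 0 (t * t' ^ (3 * 3 ^ m + 1) - t ^ 2 * t' ^ (3 * 3 ^ m)) := by
      rw [xU_mul C, xU_mul C, xU_mul C]
      congr 1
      · ring
      · rw [hT0]; ring
      · rw [hT0, hT1]; ring
    have e2 := congrArg β e1
    rw [map_mul, map_mul, map_mul, hfab', hfab', hfab', hgk', hZ, xU_mul C, xU_mul C, xU_mul C] at e2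
    obtain ⟨_, eu, ev⟩ := xU_inj C e2
    rw [hT0] at eu
    rw [hT0, hT1] at ev
    constructor
    · linear_combination eu
    · linear_combination ev
  -- a suitable element
  obtain ⟨z, hzne⟩ := exists_pow_ne hK hm
  -- `g = id`
  have hgneg : ∀ u, g (-u) = -g u := by
    intro u
    have := (hgadd u (-u)).1
    rw [add_neg_cancel, hgz.1] at this
    linear_combination -this
  have hkneg : ∀ u, k (-u) = -k u := by
    intro u
    have := (hgadd u (-u)).2
    rw [add_neg_cancel, hgz.2] at this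
    linear_combination -this
  have hgsq : ∀ s u : K, g (s ^ 2 * u) = s ^ 2 * g u := by
    intro s u
    by_cases hs : s = 0
    · rw [hs]; simp [hgz.1]
    · have e := (hgw ((Units.mk0 s hs) ^ (3 * 3 ^ m + 1)) u).1
      rw [c10_pow hK, Units.val_mk0] at e
      exact e
  have hksq : ∀ s u : K, k u = 0 → k (s ^ 2 * u) = 0 := by
    intro s u hu
    by_cases hs : s = 0
    · rw [hs]; simp [hgz.2]
    · have e := (hgw ((Units.mk0 s hs) ^ (3 * 3 ^ m + 1)) u).2
      rw [c10_pow hK, Units.val_mk0, hu, mul_zero] at e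
      exact e
  have hgD : g (z ^ (3 * 3 ^ m) - z) = z ^ (3 * 3 ^ m) - z := by
    have e3 : g (z ^ (3 * 3 ^ m) - z) = g (z ^ (3 * 3 ^ m)) - g z := by
      rw [sub_eq_add_neg, (hgadd _ _).1, hgneg]; ring
    have e1 := (hprod z 1).1
    have e2 := (hprod 1 z).1
    rw [one_pow, mul_one, hgneg] at e1
    rw [one_mul, hgneg, add_comm 1 z] at e2
    rw [e3]
    linear_combination e2 - e1
  have hg : ∀ u, g u = u := by
    let S : AddSubgroup K :=
      { carrier := {u | g u = u}
        zero_mem' := hgz.1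
        add_mem' := fun {x y} hx hy => by
          show g (x + y) = x + y
          rw [(hgadd x y).1, hx, hy]
        neg_mem' := fun {x} hx => by
          show g (-x) = -x
          rw [hgneg, hx] }
    intro u
    exact sq_closed_top hodd S (fun s x hx => by
      show g (s ^ 2 * x) = s ^ 2 * x
      rw [hgsq, hx]) (y := z ^ (3 * 3 ^ m) - z) hgD hzne u
  -- `a = 0`
  have haadd : ∀ t t', a (t + t') = a t + a t' := by
    intro t t'
    have e := (hprod t t').1
    rw [hg] at e
    linear_combination -e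
  have ha : ∀ t, a t = 0 := by
    intro t
    have e1 := (hfw (-1) t).2.1
    rw [c6_neg_one, c10_neg_one, one_mul, neg_one_mul] at e1
    have e2 := haadd t (-t)
    rw [add_neg_cancel, hz.2.1, e1] at e2
    have h2 : (2 : K) ≠ 0 := by
      intro h2
      have : (1 : K) = 0 := by linear_combination h3 - h2
      exact one_ne_zero this
    have : (2 : K) * a t = 0 := by linear_combination -e2
    exact (mul_eq_zero.1 this).resolve_left h2
  -- `k = 0`
  have hbk : ∀ t t', b t + b t' = b (t + t') + k (-(t * t' ^ (3 * 3 ^ m))) := by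
    intro t t'
    have e := (hprod t t').2
    rw [ha, mul_zero, sub_zero] at e
    exact e
  have hkD : k (z ^ (3 * 3 ^ m) - z) = 0 := by
    have e3 : k (z ^ (3 * 3 ^ m) - z) = k (z ^ (3 * 3 ^ m)) - k z := by
      rw [sub_eq_add_neg, (hgadd _ _).2, hkneg]; ring
    have e1 := hbk z 1
    have e2 := hbk 1 z
    rw [one_pow, mul_one, hkneg] at e1
    rw [one_mul, hkneg, add_comm 1 z] at e2
    rw [e3]
    linear_combination e2 - e1
  have hk : ∀ u, k u = 0 := by
    let S : AddSubgroup K :=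
      { carrier := {u | k u = 0}
        zero_mem' := hgz.2
        add_mem' := fun {x y} hx hy => by
          show k (x + y) = 0
          rw [(hgadd x y).2, hx, hy, add_zero]
        neg_mem' := fun {x} hx => by
          show k (-x) = 0
          rw [hkneg, hx, neg_zero] }
    intro u
    exact sq_closed_top hodd S (fun s x hx => hksq s x hx) (y := z ^ (3 * 3 ^ m) - z) hkD hzne u
  -- `b = 0`
  have hbadd : ∀ t t', b (t + t') = b t + b t' := by
    intro t t'
    have e := hbk t t'
    rw [hk, add_zero] at e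
    exact e.symm
  have hbs : ∀ s : K, b s = s ^ (3 * 3 ^ m + 2) * b 1 := by
    intro s
    by_cases hs : s = 0
    · rw [hs, hz.2.2, hT2, zero_mul]
    · have e := (hfw ((Units.mk0 s hs) ^ (3 * 3 ^ m + 2)) 1).2.2
      rw [c6_pow hK, Units.val_mk0, mul_one, Units.val_pow_eq_pow_val, Units.val_mk0] at e
      exact e
  have hb1 : b 1 = 0 := by
    have e := hbadd z 1
    rw [hbs (z + 1), hbs z] at e
    have hexp : (z + 1) ^ (3 * 3 ^ m + 2) - z ^ (3 * 3 ^ m + 2) - 1 =
        (1 - z) * (z ^ (3 * 3 ^ m) - z) := by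
      rw [pow_add, C.add_pow_three_theta, one_pow]
      linear_combination (z ^ (3 * 3 ^ m) * z + z) * h3
    have e' : ((1 - z) * (z ^ (3 * 3 ^ m) - z)) * b 1 = 0 := by
      rw [← hexp]; linear_combination e
    have hz1 : 1 - z ≠ 0 := by
      intro h
      have : z = 1 := by linear_combination -h
      apply hzne
      rw [this, one_pow, sub_self]
    exact (mul_eq_zero.1 e').resolve_left (mul_ne_zero hz1 hzne)
  have hb : ∀ t, b t = 0 := by
    intro t; rw [hbs, hb1, mul_zero]
  -- conclusion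
  rw [xU_split C, map_mul, map_mul, hfab', hgk', hZ, ha, hb, hg, hk]

end Cfsg.Agent.Helper6.ReeAut
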