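import Mathlib
import Cfsg.Agent.Helper6.ReeAut.Rigid

set_option autoImplicit false
set_option linter.unusedSectionVars false
set_option linter.unusedVariables false
set_option linter.unusedSimpArgs false

/-!
Every automorphism of `²G₂(q)` is the product of an inner and a field automorphism.
-/

namespace Cfsg.Agent.Helper6.ReeAut

open Cfsg.Lie Cfsg.Agent.Helper6 Cfsg.Agent.Helper6.Ree

variable {K : Type*} [Field K] {m : ℕ}

section powers

variable [Fintype K] (hK : Fintype.card K = 3 ^ (2 * m + 1))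
include hK

/-- the `(3θ+2)`-th power map is onto -/
theorem exists_pow_Q (c : K) : ∃ s : K, s ^ (3 * 3 ^ m + 2) = c := by
  by_cases hc : c = 0
  · exact ⟨0, by rw [hc, zero_pow (Nat.succ_ne_zero _)]⟩
  · have hq : c ^ 3 ^ (2 * m + 1) = c := by rw [← hK]; exact FiniteField.pow_card _
    have h1 : 2 ≤ 3 * 3 ^ m := by
      have : 1 ≤ 3 ^ m := Nat.one_le_pow _ _ (by norm_num)
      omega
    refine ⟨(c ^ (3 * 3 ^ m - 2))⁻¹, ?_⟩
    have e : (c ^ (3 * 3 ^ m - 2)) ^ (3 * 3 ^ m + 2) * c = 1 := by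
      rw [← pow_mul, ← pow_succ]
      have hexp : (3 * 3 ^ m - 2) * (3 * 3 ^ m + 2) + 1 + 3 = 3 * 3 ^ (2 * m + 1) := by
        obtain ⟨n, hn⟩ : ∃ n, 3 * 3 ^ m = n + 2 := ⟨3 * 3 ^ m - 2, by omega⟩
        have h2 : 3 * 3 ^ (2 * m + 1) = (3 * 3 ^ m) * (3 * 3 ^ m) := by ring
        rw [h2, hn]
        simp only [Nat.add_sub_cancel]
        ring
      have h3 : c ^ ((3 * 3 ^ m - 2) * (3 * 3 ^ m + 2) + 1) * c ^ 3 = c ^ 3 := by
        rw [← pow_add, hexp, mul_comm 3, pow_mul, hq]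
      have hc3 : c ^ 3 ≠ 0 := pow_ne_zero _ hc
      exact mul_right_cancel₀ hc3 (by rw [h3, one_mul])
    rw [inv_pow]
    exact inv_eq_of_mul_eq_one_right e

end powers

section main

variable [Fintype K] (C : ReeCtx K m) (hK : Fintype.card K = 3 ^ (2 * m + 1))
include C hK

/-- step 0: an inner automorphism moves `α(U¹)` back to `U¹` -/
theorem exists_hU (α : MulAut ↥(twistedG2 K (3 ^ m))) :
    ∃ g : ↥(twistedG2 K (3 ^ m)), ∀ u ∈ (r1 C).U, (MulAut.conj g * α) u ∈ (r1 C).U := by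
  classical
  have : Fact (Nat.Prime 3) := ⟨Nat.prime_three⟩
  have hfin : Finite ↥(twistedG2 K (3 ^ m)) := Subtype.finite
  have hU1 : IsPGroup 3 ↥(ReeCtx.U1 (K := K) (m := m)) :=
    IsPGroup.of_card (n := (2 * m + 1) * 3) (by rw [C.card_U1 hK, ← pow_mul])
  have hP : IsPGroup 3 ((ReeCtx.U1 (K := K) (m := m)).map α.toMonoidHom) := hU1.map α.toMonoidHom
  obtain ⟨P, hP'⟩ := hP.exists_le_sylow
  obtain ⟨a, ha⟩ := C.sylow_eq_conj hK P
  refine ⟨a⁻¹, fun u hu => ?_⟩
  have hx : α u ∈ (P : Subgroup ↥(twistedG2 K (3 ^ m))) := hP' ⟨u, hu, rfl⟩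
  rw [MulAut.mul_apply, MulAut.conj_apply, inv_inv]
  exact (ha _).1 hx

/-- step 1: every automorphism can be normalised by an inner automorphism -/
theorem exists_norm_inner (α : MulAut ↥(twistedG2 K (3 ^ m))) :
    ∃ g : ↥(twistedG2 K (3 ^ m)), (r1 C).Norm (MulAut.conj g * α) := by
  have hfin : Finite ↥(twistedG2 K (3 ^ m)) := Subtype.finite
  obtain ⟨g₀, hg₀⟩ := exists_hU C hK α
  obtain ⟨u₁, hu₁, h⟩ := R1Data.exists_norm (D := r1 C) hg₀
  refine ⟨u₁ * g₀, ?_⟩
  rw [map_mul, mul_assoc]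
  exact h

/-- step 2: a normalised automorphism preserves the centre of `U¹` -/
theorem norm_Z {α : MulAut ↥(twistedG2 K (3 ^ m))} (hα : (r1 C).Norm α) (v : K) :
    ∃ v' : K, α (xU m 0 0 v) = xU m 0 0 v' := by
  obtain ⟨s, hs⟩ := exists_pow_Q hK (-v)
  obtain ⟨t', u', v', e⟩ := exists_xU C (hα.hU _ (xU_mem_U1 s 0 0))
  refine ⟨-(t' ^ (3 * 3 ^ m + 2)), ?_⟩
  have e1 : xU m 0 0 v = (xU m s 0 0) ^ 3 := by rw [xU_cube C, hs, neg_neg]
  rw [e1, map_pow, e, xU_cube C]

theorem xU_100_cube_ne : (xU m (1 : K) 0 0) ^ 3 ≠ 1 := by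
  rw [xU_cube C, one_pow, ← xU_zero]
  intro h
  have := (xU_inj C h).2.2
  exact one_ne_zero (neg_eq_zero.1 this)

/-- step 3: normalising the first coordinate of the image of `x(1,0,0)` -/
theorem exists_norm_one {α : MulAut ↥(twistedG2 K (3 ^ m))} (hα : (r1 C).Norm α) :
    ∃ w : Kˣ, (r1 C).Norm (MulAut.conj (hT C hK w) * α) ∧
      ∃ a b : K, (MulAut.conj (hT C hK w) * α) (xU m 1 0 0) = xU m 1 a b := by
  obtain ⟨c, a, b, e⟩ := exists_xU C (hα.hU _ (xU_mem_U1 (1 : K) 0 0))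
  have hc : c ≠ 0 := by
    intro hc
    apply xU_100_cube_ne C hK
    apply α.injective
    rw [map_pow, e, xU_cube C, hc, zero_pow (Nat.succ_ne_zero _), neg_zero, xU_zero, map_one]
  set w : Kˣ := (Units.mk0 c hc)⁻¹ ^ (3 * 3 ^ m + 2) with hw
  refine ⟨w, (R1Data.Norm.conj_H (D := r1 C) (hT_mem_H1 C hK w)).mul hα,
    c10 m w * a, (w : K) * b, ?_⟩
  rw [MulAut.mul_apply, e, MulAut.conj_apply, hT_conj_xU, hw, c6_pow hK, Units.val_inv_eq_inv_val,
    Units.val_mk0, inv_mul_cancel₀ hc]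

/-- step 4: the field automorphism of a normalised automorphism -/
theorem exists_field {α : MulAut ↥(twistedG2 K (3 ^ m))} (hα : (r1 C).Norm α)
    (h1 : ∃ a b : K, α (xU m 1 0 0) = xU m 1 a b) :
    ∃ f : K ≃+* K, ∀ v : K, α (xU m 0 0 v) = xU m 0 0 (f v) := by
  choose φ hφ using norm_Z C hK hα
  have hadd : ∀ x y, φ (x + y) = φ x + φ y := by
    intro x y
    have e := congrArg α (xU_Z_add C x y)
    rw [map_mul, hφ, hφ, hφ, xU_Z_add C] at e
    exact ((xU_inj C e).2.2).symm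
  have hzero : φ 0 = 0 := by
    have := hadd 0 0
    rw [add_zero] at this
    linear_combination -this
  have hneg : ∀ x, φ (-x) = -φ x := by
    intro x
    have := hadd x (-x)
    rw [add_neg_cancel, hzero] at this
    linear_combination -this
  have hone : φ 1 = 1 := by
    obtain ⟨a, b, e⟩ := h1
    have e1 : xU m 0 0 (-1 : K) = (xU m 1 0 0) ^ 3 := by rw [xU_cube C, one_pow]
    have e2 := congrArg α e1
    rw [map_pow, e, xU_cube C, hφ, one_pow, hneg] at e2
    have := (xU_inj C e2).2.2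
    linear_combination -this
  choose χ hχ using fun w : Kˣ => exists_hT C hK (hα.torus (hT_mem_H1 C hK w))
  have hmulw : ∀ (w : Kˣ) (v : K), φ ((w : K) * v) = (χ w : K) * φ v := by
    intro w v
    have e0 := hT_conj_xU C hK w 0 0 v
    rw [mul_zero, mul_zero] at e0
    have e := congrArg α e0
    rw [map_mul, map_mul, map_inv, hχ, hφ, hφ, hT_conj_xU, mul_zero, mul_zero] at e
    exact ((xU_inj C e).2.2).symm
  have hχφ : ∀ w : Kˣ, (χ w : K) = φ (w : K) := by
    intro w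
    have := hmulw w 1
    rw [mul_one, hone, mul_one] at this
    exact this.symm
  have hmul : ∀ x y, φ (x * y) = φ x * φ y := by
    intro x y
    by_cases hx : x = 0
    · rw [hx, zero_mul, hzero, zero_mul]
    · have := hmulw (Units.mk0 x hx) y
      rw [hχφ, Units.val_mk0] at this
      exact this
  let φr : K →+* K :=
    { toFun := φ, map_one' := hone, map_mul' := hmul, map_zero' := hzero, map_add' := hadd }
  have hbij : Function.Bijective φr :=
    ⟨φr.injective, Finite.surjective_of_injective φr.injective⟩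
  exact ⟨RingEquiv.ofBijective φr hbij, fun v => hφ v⟩

end main

end Cfsg.Agent.Helper6.ReeAut
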