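import Mathlib
import Cfsg.Prelude.Def_KGroupFacts
import Cfsg.Agent.Helper6.ReeAut.Field

set_option autoImplicit false
set_option linter.unusedSectionVars false
set_option linter.unusedVariables false
set_option linter.unusedSimpArgs false

/-!
`Out(²G₂(q))` has order `2m+1`.
-/

namespace Cfsg.Agent.Helper6.ReeAut

open Cfsg.Lie Cfsg.Agent.Helper6 Cfsg.Agent.Helper6.Ree

variable {K : Type*} [Field K] {m : ℕ}

theorem phiAut_xU (f : K ≃+* K) (t u v : K) :
    phiAut f (xU m t u v) = xU m (f t) (f u) (f v) := Subtype.ext (gm_reeU f t u v)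

theorem phiAut_nG (f : K ≃+* K) : phiAut f (nG K m) = nG K m := Subtype.ext (gm_n0 f)

/-- the number of automorphisms of the field with `3^(2m+1)` elements -/
theorem card_ringEquiv [Fintype K] (hK : Fintype.card K = 3 ^ (2 * m + 1)) :
    Nat.card (K ≃+* K) = 2 * m + 1 := by
  have : Fact (Nat.Prime 3) := ⟨Nat.prime_three⟩
  have hch : CharP K 3 := charP_of_card_eq_prime_pow hK
  let _ := ZMod.algebra K 3
  have e : (K ≃+* K) ≃ (K →ₐ[ZMod 3] K) :=
    { toFun := fun φ => { φ.toRingHom with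
        commutes' := fun r => by
          have := RingHom.ext_zmod (φ.toRingHom.comp (algebraMap (ZMod 3) K)) (algebraMap (ZMod 3) K)
          exact congrFun (congrArg DFunLike.coe this) r }
      invFun := fun f => RingEquiv.ofBijective f.toRingHom
        ⟨f.toRingHom.injective, Finite.surjective_of_injective f.toRingHom.injective⟩
      left_inv := fun φ => by ext; rfl
      right_inv := fun f => by ext; rfl }
  rw [Nat.card_congr e, FiniteField.natCard_algHom_of_finrank_dvd (dvd_refl _)]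
  have h1 := Module.card_eq_pow_finrank (K := ZMod 3) (V := K)
  rw [ZMod.card, hK] at h1
  exact (Nat.pow_right_injective (by norm_num : 2 ≤ 3) h1).symm

section main

variable [Fintype K] (C : ReeCtx K m) (hK : Fintype.card K = 3 ^ (2 * m + 1))
include C

theorem phiAut_norm (f : K ≃+* K) : (r1 C).Norm (phiAut f) := by
  refine ⟨fun u hu => ?_, fun u hu => ?_⟩
  · obtain ⟨t, u', v, rfl⟩ := exists_xU C hu
    rw [phiAut_xU]; exact xU_mem_U1 _ _ _
  · obtain ⟨t, u', v, rfl⟩ := exists_xU C hu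
    refine ⟨xU m (f t) (f u') (f v), xU_mem_U1 _ _ _, ?_⟩
    rw [map_mul, map_mul, map_inv, phiAut_xU]
    show phiAut f (nG K m) * _ * (phiAut f (nG K m))⁻¹ = nG K m * _ * (nG K m)⁻¹
    rw [phiAut_nG]

include hK

theorem core_free (hm : 1 ≤ m) (g : ↥(twistedG2 K (3 ^ m)))
    (h : ∀ x : ↥(twistedG2 K (3 ^ m)), x * g * x⁻¹ ∈ (r1 C).B) : g = 1 := by
  obtain ⟨hs, _⟩ := C.simple hK hm
  have hmem : g ∈ (r1 C).B.normalCore := h
  rcases (Subgroup.normalCore_normal (r1 C).B).eq_bot_or_eq_top with h0 | h1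
  · rw [h0] at hmem; exact Subgroup.mem_bot.1 hmem
  · exfalso
    apply (r1 C).n_not_mem_B
    have : (r1 C).n ∈ (r1 C).B.normalCore := by rw [h1]; trivial
    exact Subgroup.normalCore_le _ this

/-- every automorphism is inner times field -/
theorem exists_inner_field (hm : 1 ≤ m) (α : MulAut ↥(twistedG2 K (3 ^ m))) :
    ∃ (g : ↥(twistedG2 K (3 ^ m))) (f : K ≃+* K), MulAut.conj g * α = phiAut f := by
  have hfin : Finite ↥(twistedG2 K (3 ^ m)) := Subtype.finite
  obtain ⟨g₁, h₁⟩ := exists_norm_inner C hK α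
  obtain ⟨w, h₂, h₂'⟩ := exists_norm_one C hK h₁
  set α₂ := MulAut.conj (hT C hK w) * (MulAut.conj g₁ * α) with hα₂
  obtain ⟨f, hf⟩ := exists_field C hK h₂ h₂'
  set β := (phiAut f)⁻¹ * α₂ with hβdef
  have hβ : (r1 C).Norm β := (phiAut_norm C f).inv.mul h₂
  have hZ : ∀ v : K, β (xU m 0 0 v) = xU m 0 0 v := by
    intro v
    rw [hβdef, MulAut.mul_apply, hf, MulAut.inv_apply, MulEquiv.symm_apply_eq, phiAut_xU, map_zero]
  have h1 : ∃ a b : K, β (xU m 1 0 0) = xU m 1 a b := by
    obtain ⟨a, b, e⟩ := h₂'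
    refine ⟨f.symm a, f.symm b, ?_⟩
    rw [hβdef, MulAut.mul_apply, e, MulAut.inv_apply, MulEquiv.symm_apply_eq, phiAut_xU]
    simp
  have hβU : ∀ u ∈ (r1 C).U, β u = u := by
    intro u hu
    obtain ⟨t, u', v, rfl⟩ := exists_xU C hu
    exact rigid_U C hK hm hβ hZ h1 t u' v
  have hβ1 := hβ.eq_one (core_free C hK hm) hβU
  refine ⟨hT C hK w * g₁, f, ?_⟩
  rw [map_mul, mul_assoc]
  exact (inv_mul_eq_one.1 hβ1).symm

/-- distinct field automorphisms differ modulo inner automorphisms -/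
theorem phiAut_inj (f f' : K ≃+* K) (g : ↥(twistedG2 K (3 ^ m)))
    (h : phiAut f' = MulAut.conj g * phiAut f) : f = f' := by
  have hfin : Finite ↥(twistedG2 K (3 ^ m)) := Subtype.finite
  have hγ : (r1 C).Norm (MulAut.conj g) := by
    have : MulAut.conj g = phiAut f' * (phiAut f)⁻¹ := by rw [h]; group
    rw [this]
    exact (phiAut_norm C f').mul (phiAut_norm C f).inv
  have hgH : g ∈ (r1 C).H := by
    obtain ⟨y, hy, hy1⟩ := (r1 C).exU
    apply (r1 C).mem_H_of_two
    · refine ⟨y, hy, hy1, ?_⟩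
      have := hγ.hU y hy
      rwa [MulAut.conj_apply] at this
    · obtain ⟨y', hy', e⟩ := hγ.hV y hy
      rw [MulAut.conj_apply] at e
      exact ⟨y, hy, hy1, y', hy', e⟩
  obtain ⟨w, rfl⟩ := exists_hT C hK hgH
  have key : ∀ v : K, f' v = (w : K) * f v := by
    intro v
    have e := congrArg (fun γ : MulAut ↥(twistedG2 K (3 ^ m)) => γ (xU m 0 0 v)) h
    simp only [MulAut.mul_apply, MulAut.conj_apply, phiAut_xU, hT_conj_xU, map_zero, mul_zero] at e
    exact (xU_inj C e).2.2
  have hw1 : (w : K) = 1 := by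
    have := key 1
    rw [map_one, map_one, mul_one] at this
    exact this.symm
  apply RingEquiv.ext
  intro v
  rw [key v, hw1, one_mul]

/-- `Out(²G₂(q))` has order `2m+1` -/
theorem card_out (hm : 1 ≤ m) :
    Nat.card (Cfsg.Out ↥(twistedG2 K (3 ^ m))) = 2 * m + 1 := by
  rw [← card_ringEquiv hK]
  symm
  apply Nat.card_congr
  refine Equiv.ofBijective
    (fun f : K ≃+* K => (QuotientGroup.mk (phiAut f) : Cfsg.Out ↥(twistedG2 K (3 ^ m)))) ⟨?_, ?_⟩
  · intro f f' hff'
    have h1 := QuotientGroup.eq.mp hff'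
    obtain ⟨g, hg⟩ := h1
    have h2 : phiAut f' = phiAut f * MulAut.conj g := by
      rw [hg]; group
    apply phiAut_inj C hK f f' (phiAut f g)
    rw [h2]
    ext x
    simp only [MulAut.mul_apply, MulAut.conj_apply, map_mul, map_inv]
  · intro x
    obtain ⟨α, rfl⟩ := QuotientGroup.mk_surjective x
    obtain ⟨g, f, hf⟩ := exists_inner_field C hK hm α
    refine ⟨f, ?_⟩
    show (QuotientGroup.mk (phiAut f) : Cfsg.Out ↥(twistedG2 K (3 ^ m))) = QuotientGroup.mk α
    rw [QuotientGroup.eq, ← hf]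
    refine ⟨α⁻¹ g⁻¹, ?_⟩
    ext x
    simp [MulAut.mul_apply, MulAut.inv_apply, map_mul, map_inv]

end main

end Cfsg.Agent.Helper6.ReeAut
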